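import Mathlib

/-!
# Splittings given by complete families of orthogonal idempotents
-/

set_option autoImplicit false

universe v u

open CategoryTheory CategoryTheory.Limits

noncomputable section

namespace EllDescLib

variable {C : Type u} [Category.{v} C] [Abelian C]

attribute [local instance] Abelian.hasFiniteBiproducts

/-- A complete family of orthogonal idempotent endomorphisms splits the object. -/
theorem exists_split {Q : C} {n : ℕ} (e : Fin n → End Q) (he : CompleteOrthogonalIdempotents e) :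
    ∃ (Y : Fin n → C) (i : ∀ a, Y a ⟶ Q) (p : ∀ a, Q ⟶ Y a), (∀ a, i a ≫ p a = 𝟙 _) ∧
      (∀ a, End.of (p a ≫ i a) = e a) ∧ (∑ a, p a ≫ i a) = 𝟙 Q ∧ Nonempty (Q ≅ ⨁ Y) := by
  choose Y i p hip hpi using fun a =>
    IsIdempotentComplete.idempotents_split Q (e a).asHom (congrArg End.asHom (he.idem a))
  have htot : (∑ a, p a ≫ i a) = 𝟙 Q := by
    simp only [hpi]
    exact he.complete
  refine ⟨Y, i, p, hip, hpi, htot, ⟨⟨biproduct.lift p, biproduct.desc i, ?_, ?_⟩⟩⟩
  · rw [biproduct.lift_desc, htot]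
  · refine biproduct.hom_ext' _ _ fun a => biproduct.hom_ext _ _ fun b => ?_
    simp only [biproduct.ι_desc_assoc, Category.assoc, biproduct.lift_π, Category.comp_id]
    by_cases hab : a = b
    · subst hab
      rw [hip, biproduct.ι_π_self]
    · rw [biproduct.ι_π_ne _ hab]
      calc i a ≫ p b = i a ≫ ((p a ≫ i a) ≫ (p b ≫ i b)) ≫ p b := by
            simp only [Category.assoc, reassoc_of% (hip a), hip b, Category.comp_id]
        _ = 0 := by
          have h0 : (p a ≫ i a) ≫ (p b ≫ i b) = 0 := by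
            rw [hpi, hpi]
            exact he.ortho (Ne.symm hab)
          rw [h0, zero_comp, comp_zero]

/-- Maps out of a split object vanish if their components do. -/
theorem eq_zero_of_comp {Q M : C} {n : ℕ} {Y : Fin n → C} (i : ∀ a, Y a ⟶ Q) (p : ∀ a, Q ⟶ Y a)
    (htot : (∑ a, p a ≫ i a) = 𝟙 Q) (φ : Q ⟶ M) (h : ∀ a, i a ≫ φ = 0) : φ = 0 := by
  rw [← Category.id_comp φ, ← htot, Preadditive.sum_comp]
  exact Finset.sum_eq_zero fun a _ => by rw [Category.assoc, h, comp_zero]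

/-- Maps into a split object vanish if their components do. -/
theorem eq_zero_of_comp' {Q M : C} {n : ℕ} {Y : Fin n → C} (i : ∀ a, Y a ⟶ Q) (p : ∀ a, Q ⟶ Y a)
    (htot : (∑ a, p a ≫ i a) = 𝟙 Q) (φ : M ⟶ Q) (h : ∀ a, φ ≫ p a = 0) : φ = 0 := by
  rw [← Category.comp_id φ, ← htot, Preadditive.comp_sum]
  exact Finset.sum_eq_zero fun a _ => by rw [← Category.assoc, h, zero_comp]

/-- An object all whose idempotent endomorphisms are trivial does not decompose. -/
theorem indec_of_idem {Q : C} (h : ∀ e : End Q, IsIdempotentElem e → e = 0 ∨ e = 1) :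
    ∀ A B : C, Nonempty (Q ≅ A ⊞ B) → IsZero A ∨ IsZero B := by
  rintro A B ⟨f⟩
  rcases h (End.of (f.hom ≫ biprod.fst ≫ biprod.inl ≫ f.inv)) (by
    show (f.hom ≫ biprod.fst ≫ biprod.inl ≫ f.inv) ≫ f.hom ≫ biprod.fst ≫ biprod.inl ≫ f.inv = _
    simp) with h0 | h1
  · left
    have h0' : f.hom ≫ biprod.fst ≫ biprod.inl ≫ f.inv = 0 := h0
    refine (IsZero.iff_id_eq_zero A).2 ?_
    calc 𝟙 A = biprod.inl ≫ f.inv ≫ (f.hom ≫ biprod.fst ≫ biprod.inl ≫ f.inv) ≫ f.hom ≫ biprod.fst := by simp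
      _ = 0 := by rw [h0']; simp
  · right
    have h1' : f.hom ≫ biprod.fst ≫ biprod.inl ≫ f.inv = 𝟙 Q := h1
    refine (IsZero.iff_id_eq_zero B).2 ?_
    calc 𝟙 B = biprod.inr ≫ f.inv ≫ (f.hom ≫ biprod.fst ≫ biprod.inl ≫ f.inv) ≫ f.hom ≫ biprod.snd := by
          rw [h1']; simp
      _ = 0 := by simp

end EllDescLib

end
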