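import Groth.Agent.KSModLib.Isotypical
import Groth.Agent.HilbPolyLib.BaseField

/-!
# Endomorphisms of a pulled back module
-/

set_option autoImplicit false
set_option linter.style.haveILetI false
set_option linter.unusedSectionVars false
set_option maxHeartbeats 1000000
universe u

open CategoryTheory CategoryTheory.Limits AlgebraicGeometry TopologicalSpace Opposite TensorProduct
open GLinBCLib KFlatLib

noncomputable section

namespace EllDescLib

attribute [local instance] HilbPolyLib.bcOver

variable (k : Type u) [Field k] (X : Scheme.{u}) [X.Over (Spec (CommRingCat.of k))]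
  (L : Type u) [Field L] [Algebra k L]

/-- The base change square of the curve. -/
def sqBC : BC k L X (Curv2.bc k X L) where
  g := Curv2.bcFst k X L
  iX := X ↘ Spec (CommRingCat.of k)
  iY := Curv2.bcSnd k X L
  sq := IsPullback.of_hasPullback _ _

/-- The pullback functor. -/
abbrev P : X.Modules ⥤ (Curv2.bc k X L).Modules := Scheme.Modules.pullback (sqBC k X L).g

variable {k X}

theorem smul_app' {M N : (Curv2.bc k X L).Modules} (c : L) (φ : M ⟶ N) (V : (Curv2.bc k X L).Opens) (m : Γ(M, V)) :
    (c • φ).app V m = (sqBC k X L).cY V c • φ.app V m := by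
  rw [KLin.smul_app_apply]
  rfl

theorem smul_app_k {M N : X.Modules} (a : k) (φ : M ⟶ N) (U : X.Opens) (m : Γ(M, U)) :
    (a • φ).app U m = (sqBC k X L).cX U a • φ.app U m := by
  rw [KLin.smul_app_apply]
  rfl

variable {L}

/-- Morphisms out of a pullback are determined by pulled back sections. -/
theorem hom_ext_puSec {M : X.Modules} {N : (Curv2.bc k X L).Modules} {φ ψ : (P k X L).obj M ⟶ N}
    (h : ∀ (U : X.Opens), IsAffineOpen U → ∀ m : Γ(M, U),
      φ.app _ (puSec (sqBC k X L).g m) = ψ.app _ (puSec (sqBC k X L).g m)) :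
    φ = ψ := by
  refine ((Scheme.Modules.pullbackPushforwardAdjunction _).homEquiv _ _).injective
    (DefClassLib.hom_ext_affines fun U m => ?_)
  rw [Adjunction.homEquiv_unit, Adjunction.homEquiv_unit]
  exact h U.1 U.2 m

/-- The pullback of scalars. -/
theorem map_smul_P {M N : X.Modules} (a : k) (φ : M ⟶ N) :
    (P k X L).map (a • φ) = algebraMap k L a • (P k X L).map φ := by
  refine hom_ext_puSec fun U hU m => ?_
  rw [puSec_natural, smul_app' L, puSec_natural, smul_app_k L, puSec_smul]
  exact congrArg (· • _) (ConcreteCategory.congr_hom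
    ((sqBC k X L).isPushout hU.isCompact hU.isQuasiSeparated).w a)

/-- Pullback of linear maps is injective. -/
theorem map_injective {M N : X.Modules} [Coh.IsQCoh N] {φ ψ : M ⟶ N} (h : (P k X L).map φ = (P k X L).map ψ) : φ = ψ := by
  refine DefClassLib.hom_ext_affines fun U m => ?_
  let e := Module.Free.chooseBasis k L
  obtain ⟨i⟩ : Nonempty (Module.Free.ChooseBasisIndex k L) := e.index_nonempty
  refine Finsupp.single_injective i ((KSMod.combM_bijective (sqBC k X L) e N U.2).1 ?_)
  unfold KSMod.combM
  rw [Finsupp.sum_single_index (by rw [KSMod.puSec_zero, smul_zero]),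
    Finsupp.sum_single_index (by rw [KSMod.puSec_zero, smul_zero]), ← puSec_natural, ← puSec_natural]
  exact congr(_ • Scheme.Modules.Hom.app $h _ (puSec _ m))

/-- A combination of pullbacks on pulled back sections. -/
theorem sum_app {ι : Type u} [Fintype ι] (e : Module.Basis ι k L) {M N : X.Modules} (a : ι → (M ⟶ N))
    (U : X.Opens) (m : Γ(M, U)) :
    (∑ i, e i • (P k X L).map (a i)).app _ (puSec (sqBC k X L).g m) =
      KSMod.combM (sqBC k X L) e N U (Finsupp.equivFunOnFinite.symm fun i => (a i).app U m) := by
  let ev : ((P k X L).obj M ⟶ (P k X L).obj N) →+ Γ((P k X L).obj N, (sqBC k X L).g ⁻¹ᵁ U) :=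
    AddMonoidHom.mk' (fun φ => φ.app _ (puSec (sqBC k X L).g m)) fun φ ψ => rfl
  show ev _ = _
  rw [map_sum, KSMod.combM, Finsupp.sum_fintype _ _ (fun i => by rw [KSMod.puSec_zero, smul_zero])]
  refine Finset.sum_congr rfl fun i _ => ?_
  show (e i • (P k X L).map (a i)).app _ _ = _
  rw [smul_app' L, puSec_natural]
  rfl

variable (k L)

/-- Endomorphisms of the module, with scalars extended, act on the pullback. -/
def endMap (G : X.Modules) : L ⊗[k] End G →ₐ[L] End ((P k X L).obj G) :=
  letI : Algebra k (End ((P k X L).obj G)) := Algebra.compHom _ (algebraMap k L)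
  haveI : IsScalarTower k L (End ((P k X L).obj G)) := IsScalarTower.of_algebraMap_eq fun _ => rfl
  let f : End G →ₐ[k] End ((P k X L).obj G) :=
    { toFun := fun a => End.of ((P k X L).map a.asHom)
      map_one' := (P k X L).map_id G
      map_mul' := fun a b => (P k X L).map_comp b.asHom a.asHom
      map_zero' := (P k X L).map_zero G G
      map_add' := fun a b => (P k X L).map_add
      commutes' := fun c => by
        show (P k X L).map (algebraMap k (End G) c).asHom = algebraMap L (End ((P k X L).obj G)) (algebraMap k L c)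
        rw [Algebra.algebraMap_eq_smul_one, Algebra.algebraMap_eq_smul_one]
        exact (map_smul_P c (𝟙 G)).trans (congrArg (algebraMap k L c • ·) ((P k X L).map_id G)) }
  Algebra.TensorProduct.lift (Algebra.ofId L _) f fun c a => Algebra.commutes c _

theorem endMap_tmul (G : X.Modules) (c : L) (a : End G) :
    endMap k L G (c ⊗ₜ a) = c • (End.of ((P k X L).map a.asHom)) := by
  refine (?_ : algebraMap L (End ((P k X L).obj G)) c * End.of ((P k X L).map a.asHom) = _)
  exact (Algebra.smul_def _ _).symm

/-- The endomorphisms of a pullback along a finite extension. -/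
theorem endMap_bijective [Module.Finite k L] (G : X.Modules) [Coh.IsQCoh G] :
    Function.Bijective (endMap k L G) := by
  classical
  let e := Module.Free.chooseBasis k L
  let β := sqBC (k := k) (X := X) L
  have hz : ∀ b : Module.Free.ChooseBasisIndex k L →₀ End G,
      (endMap k L G ((TensorProduct.equivFinsuppOfBasisLeft e).symm b)).asHom =
        ∑ i, e i • (P k X L).map (b i).asHom := fun b => by
    rw [TensorProduct.equivFinsuppOfBasisLeft_symm_apply, map_finsuppSum,
      Finsupp.sum_fintype _ _ (fun i => by simp)]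
    exact Finset.sum_congr rfl fun i _ => endMap_tmul k L G (e i) (b i)
  refine ⟨(injective_iff_map_eq_zero _).2 fun z h0 => ?_, fun φ => ?_⟩
  · obtain ⟨b, rfl⟩ := (TensorProduct.equivFinsuppOfBasisLeft e).symm.surjective z
    suffices b = 0 by rw [this, map_zero]
    refine Finsupp.ext fun i => DefClassLib.hom_ext_affines fun U m => ?_
    have h1 := sum_app e (fun i => (b i).asHom) U.1 m
    rw [← hz, h0] at h1
    have h2 := DFunLike.congr_fun ((KSMod.combM_bijective β e G U.2).1 (h1.symm.trans
      (Finsupp.sum_zero_index.symm : (0 : Γ((P k X L).obj G, β.g ⁻¹ᵁ U.1)) = KSMod.combM β e G U.1 0))) i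
    exact h2
  · obtain ⟨h, hh⟩ := KSMod.exists_coord β e φ.asHom
    refine ⟨(TensorProduct.equivFinsuppOfBasisLeft e).symm (Finsupp.equivFunOnFinite.symm fun i => End.of (h i)), ?_⟩
    refine (hz _).trans (hom_ext_puSec fun U hU m => ?_)
    obtain ⟨b, hb, hb'⟩ := hh U hU m
    refine (sum_app e _ U m).trans (Eq.trans ?_ hb'.symm)
    exact congrArg _ (Finsupp.ext fun i => (hb i).symm)

end EllDescLib

end
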