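import Groth.Agent.EllDescLib.EndBC
import Groth.Agent.EllDescLib.Cat

/-!
# Modules with a rational character of their endomorphisms stay indecomposable
-/

set_option autoImplicit false
set_option linter.style.haveILetI false
set_option linter.unusedSectionVars false
set_option maxHeartbeats 1000000
universe u

open CategoryTheory CategoryTheory.Limits AlgebraicGeometry TopologicalSpace Opposite
open GLinBCLib KFlatLib

noncomputable section

namespace EllDescLib

attribute [local instance] HilbPolyLib.bcOver

variable {k : Type u} [Field k] {X : Scheme.{u}} [X.Over (Spec (CommRingCat.of k))]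
  (K : Type u) [Field K] [Algebra k K]

/-- A nonzero module has a nonzero section on an affine open. -/
theorem exists_ne_zero_section {G : X.Modules} (hG : ¬ IsZero G) :
    ∃ (U : X.Opens) (_ : IsAffineOpen U) (m : Γ(G, U)), m ≠ 0 := by
  by_contra h
  simp only [not_exists, ne_eq, not_not] at h
  refine hG ((IsZero.iff_id_eq_zero G).2 (DefClassLib.hom_ext_affines fun U m => ?_))
  rw [h U.1 U.2 m]
  exact (map_zero _).trans (map_zero _).symm

/-- If all endomorphisms of a module are constants up to nilpotents, so are those of its base changes. -/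
theorem indec_pb {G : X.Modules} [Coh.IsQCoh G] (hG : ¬ IsZero G) (π : End G →ₐ[k] k)
    (hu : ∀ a : End G, π a ≠ 0 → IsUnit a) {N : ℕ} (hN : RingHom.ker π ^ N = ⊥) :
    KSMod.Indec ((P k X K).obj G) := by
  classical
  let β := sqBC k X K
  let e := Module.Free.chooseBasis k K
  refine ⟨fun h => hG (KSMod.isZero_of_isZero_pb β h), indec_of_idem fun ε hε => ?_⟩
  obtain ⟨h, hh⟩ := KSMod.exists_coord β e ε.asHom
  obtain ⟨U₀, hU₀, m₀, hm₀⟩ := exists_ne_zero_section hG
  obtain ⟨b₀, hb₀, -⟩ := hh U₀ hU₀ m₀
  have hfin : {i | π (End.of (h i)) ≠ 0}.Finite := b₀.support.finite_toSet.subset fun i hi => by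
    show i ∈ b₀.support
    rw [Finsupp.mem_support_iff, hb₀]
    intro h0
    haveI : IsIso (h i) := (isUnit_iff_isIso _).1 (hu _ hi)
    refine hm₀ ?_
    have h1 : (h i ≫ inv (h i)).app U₀ m₀ = 0 := by
      show (inv (h i)).app U₀ ((h i).app U₀ m₀) = 0
      rw [h0, map_zero]
    rwa [IsIso.hom_inv_id] at h1
  let S := hfin.toFinset
  have hS : ∀ i, π (End.of (h i)) ≠ 0 → i ∈ S := fun i hi => hfin.mem_toFinset.2 hi
  let c : K := ∑ i ∈ S, algebraMap k K (π (End.of (h i))) * e i
  let ψ : End ((P k X K).obj G) := ε - algebraMap K _ c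
  have hψ : ψ ^ N = 0 := by
    let T : ℕ → ((P k X K).obj G ⟶ (P k X K).obj G) := fun n => (ψ ^ n).asHom
    refine (hom_ext_puSec fun U hU m => ?_ : T N = 0)
    show (T N).app _ (puSec β.g m) = 0
    let M : ℕ → Submodule Γ(Curv2.bc k X K, β.g ⁻¹ᵁ U) Γ((P k X K).obj G, β.g ⁻¹ᵁ U) := fun n =>
      Submodule.span _ {z | ∃ (g : G ⟶ G) (m : Γ(G, U)), (g : End G) ∈ RingHom.ker π ^ n ∧
        z = puSec β.g (g.app U m)}
    have h1 : ∀ (n : ℕ) (z), z ∈ M n → ψ.asHom.app _ z ∈ M (n + 1) := by
      intro n z hz
      induction hz using Submodule.span_induction with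
      | zero => rw [map_zero]; exact Submodule.zero_mem _
      | add x y _ _ hx hy => rw [map_add]; exact Submodule.add_mem _ hx hy
      | smul r x _ hx => rw [Scheme.Modules.Hom.app_smul]; exact Submodule.smul_mem _ r hx
      | mem z hz =>
        obtain ⟨g, m', hg, rfl⟩ := hz
        let x := g.app U m'
        obtain ⟨b, hb, hb'⟩ := hh U hU x
        let b' : Module.Free.ChooseBasisIndex k K →₀ Γ(G, U) :=
          Finsupp.onFinset S (fun i => (π (End.of (h i)) • 𝟙 G).app U x) fun i hi => hS i fun h0 => hi (by
            rw [h0, zero_smul]; rfl)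
        have hc : (c • 𝟙 ((P k X K).obj G)).app _ (puSec β.g x) = KSMod.combM β e G U b' := by
          rw [smul_app' K, KSMod.combM, Finsupp.onFinset_sum _ (fun i => by rw [KSMod.puSec_zero, smul_zero]),
            map_sum, Finset.sum_smul]
          refine Finset.sum_congr rfl fun i _ => ?_
          rw [smul_app_k K, map_mul, mul_comm, mul_smul]
          refine congrArg (_ • ·) ?_
          rw [puSec_smul]
          exact congrArg (· • _) (ConcreteCategory.congr_hom
            (β.isPushout hU.isCompact hU.isQuasiSeparated).w _).symm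
        show (ε.asHom - (algebraMap K (End ((P k X K).obj G)) c).asHom).app _ (puSec β.g x) ∈ _
        rw [show (algebraMap K (End ((P k X K).obj G)) c).asHom = c • 𝟙 ((P k X K).obj G) from
          congrArg End.asHom (Algebra.algebraMap_eq_smul_one (A := End ((P k X K).obj G)) c)]
        show ε.asHom.app _ (puSec β.g x) - (c • 𝟙 ((P k X K).obj G)).app _ (puSec β.g x) ∈ _
        have hsub : KSMod.combM β e G U b - KSMod.combM β e G U b' = KSMod.combM β e G U (b - b') := by
          rw [sub_eq_iff_eq_add, ← KSMod.combM_add, sub_add_cancel]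
        rw [hb', hc, hsub, KSMod.combM]
        refine Submodule.sum_mem _ fun i _ => Submodule.smul_mem _ _ ?_
        let j : G ⟶ G := h i - π (End.of (h i)) • 𝟙 G
        refine Submodule.subset_span ⟨g ≫ j, m', ?_, ?_⟩
        · have hj : End.of j ∈ RingHom.ker π := by
            have : End.of j = End.of (h i) - algebraMap k (End G) (π (End.of (h i))) := by
              rw [Algebra.algebraMap_eq_smul_one]; rfl
            rw [RingHom.mem_ker, this, map_sub, AlgHom.commutes]
            exact sub_self _
          show End.of j * End.of g ∈ _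
          rw [Ideal.IsTwoSided.pow_succ]
          exact Ideal.mul_mem_mul hj hg
        · refine congrArg (puSec β.g) ?_
          rw [Finsupp.sub_apply, hb]
          show _ - b' i = (h i).app U x - (π (End.of (h i)) • 𝟙 G).app U x
          by_cases hi : i ∈ S
          · rw [Finsupp.onFinset_apply]
          · rw [Finsupp.onFinset_apply]
    have h2 : ∀ n, (T n).app _ (puSec β.g m) ∈ M n := fun n => by
      induction n with
      | zero => exact Submodule.subset_span ⟨𝟙 G, m, by simp [Submodule.pow_zero, Ideal.one_eq_top], rfl⟩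
      | succ n ih =>
        have : T (n + 1) = T n ≫ ψ.asHom := congrArg End.asHom (pow_succ' ψ n)
        rw [this]
        exact h1 n _ ih
    have h3 : M N ≤ ⊥ := Submodule.span_le.2 fun z ⟨g, m', hg, hz⟩ => by
      rw [hN] at hg
      have h0 : g = 0 := hg
      rw [hz, h0]
      exact KSMod.puSec_zero β G U
    exact h3 (h2 N)
  have hsum : ε = algebraMap K _ c + ψ := (add_sub_cancel _ _).symm
  rcases eq_or_ne c 0 with hc0 | hc0
  · left
    have h0 : ε ^ N = 0 := by rw [hsum, hc0, map_zero, zero_add]; exact hψ
    calc ε = ε ^ (N + 1) := (hε.pow_succ_eq N).symm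
      _ = 0 := by rw [pow_succ, h0, zero_mul]
  · right
    refine (IsIdempotentElem.iff_eq_one_of_isUnit ?_).1 hε
    rw [hsum]
    exact IsNilpotent.isUnit_add_left_of_commute ⟨N, hψ⟩ ((isUnit_iff_ne_zero.2 hc0).map _)
      ((Algebra.commutes c ψ).symm)

end EllDescLib

end
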