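import Groth.Agent.EllDescLib.Pieces
import Groth.Agent.EllAutLib.Main
import Groth.Agent.S7797
import Groth.Agent.KSModLib.TwistAut

/-!
# Indecomposable bundles of prime rank that decompose geometrically, over finite fields
-/

set_option autoImplicit false
set_option linter.style.haveILetI false
set_option linter.unusedSectionVars false
set_option maxHeartbeats 1000000
universe u

open CategoryTheory CategoryTheory.Limits AlgebraicGeometry TopologicalSpace Opposite TensorProduct
open GLinBCLib KFlatLib CurveVBLib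

noncomputable section

namespace EllDescLib

attribute [local instance] HilbPolyLib.bcOver Abelian.hasFiniteBiproducts

variable {k : Type u} [Field k] [Finite k] {X : Scheme.{u}} [X.Over (Spec (CommRingCat.of k))]
  [IsProper (X ↘ Spec (CommRingCat.of k))] [Smooth (X ↘ Spec (CommRingCat.of k))]
  [GeometricallyIntegral (X ↘ Spec (CommRingCat.of k))] (hdim : topologicalKrullDim X = 1)
  {G : X.Modules} {n : ℕ} (hn : n.Prime) (hG : FlatMod.IsFinLocFreeOfRank n G) (hGi : KSMod.Indec G)
  (hng : ∃ (K : Type u) (_ : Field K) (_ : Algebra k K) (E₁ E₂ : (Curv2.bc k X K).Modules),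
    ¬ IsZero E₁ ∧ ¬ IsZero E₂ ∧ Nonempty ((Scheme.Modules.pullback (Curv2.bcFst k X K)).obj G ≅ E₁ ⊞ E₂))

include hn hG hGi hng

/-- The residue field of the endomorphisms has degree the rank. -/
theorem exists_residue_prime :
    ∃ (D : Type u) (_ : Field D) (_ : Algebra k D) (π : End G →ₐ[k] D), Module.Finite k D ∧
      Function.Surjective π ∧ (∃ N : ℕ, RingHom.ker π ^ N = ⊥) ∧ Module.finrank k D = n := by
  haveI := CurvLib.isNoetherian k (X := X)
  have hGc : Coh.IsCoh G := Groth.Agent.PerfLib.isCoh_of_isFinLocFree (isFinLocFree_of_rank hG)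
  haveI := hGc.1
  haveI : Module.Finite k (End G) := KSMod.finite_hom (k := k) hGc hGc
  haveI : Nontrivial (End G) := nontrivial_of_ne (1 : End G) 0 fun h =>
    hGi.1 ((IsZero.iff_id_eq_zero G).2 h)
  obtain ⟨D, hF, hA, π, hfin, hπ, N, hN⟩ := exists_residue (k := k) (End G) fun a ha =>
    KSMod.nonunit_mem_jacobson (k := k) (KSMod.idem_end hGi) ha
  refine ⟨D, hF, hA, π, hfin, hπ, ⟨N, hN⟩, ?_⟩
  obtain ⟨d, r, t, Y, i, p, hd, hdr, -⟩ := exists_pieces (k := k) hn.ne_zero hG hGi π hπ hN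
  rcases hn.eq_one_or_self_of_dvd _ (hd ▸ Dvd.intro r hdr) with h1 | h1
  · exfalso
    have hb : Function.Bijective (Algebra.ofId k D) :=
      ⟨(algebraMap k D).injective, (LinearMap.injective_iff_surjective_of_finrank_eq_finrank
        (f := Algebra.linearMap k D) (by rw [h1, Module.finrank_self])).1 (algebraMap k D).injective⟩
    let ρ : End G →ₐ[k] k := (AlgEquiv.ofBijective (Algebra.ofId k D) hb).symm.toAlgHom.comp π
    have hker : RingHom.ker ρ = RingHom.ker π := Ideal.ext fun x => by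
      simp [ρ, RingHom.mem_ker]
    obtain ⟨K, _, _, E₁, E₂, h₁, h₂, ⟨e⟩⟩ := hng
    have hi := indec_pb K hGi.1 ρ (fun a ha => ((KSMod.isUnit_or_isNilpotent (k := k) (KSMod.idem_end hGi) a).resolve_right
      fun hnil => ha ((hnil.map ρ).eq_zero))) (N := N) (by rw [hker]; exact hN)
    rcases hi.2 E₁ E₂ ⟨e⟩ with h | h
    · exact h₁ h
    · exact h₂ h
  · exact h1

include hdim

/-- Over the extension of degree the rank the bundle splits into distinct line bundles of equal degree. -/
theorem exists_lines (L : Type u) [Field L] [Algebra k L] (hL : Module.finrank k L = n) :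
    ∃ (π : End G →ₐ[k] L) (Y : Fin n → (Curv2.bc k X L).Modules)
      (i : ∀ a, Y a ⟶ (P k X L).obj G) (p : ∀ a, (P k X L).obj G ⟶ Y a),
      Function.Bijective π ∧ (∀ a, PicF.IsInvertible (Y a)) ∧ (∑ a, p a ≫ i a) = 𝟙 _ ∧
      Nonempty ((P k X L).obj G ≅ ∐ Y) ∧ (∀ a b, a ≠ b → ¬ Nonempty (Y a ≅ Y b)) ∧
      (∀ a, (n : ℤ) * Curv2.deg L (Curv2.bc k X L) (Y a) 1 = Curv2.deg k X G n) ∧
      (∀ a (M : X.Modules), PicF.IsInvertible M → ¬ Nonempty (Y a ≅ (P k X L).obj M)) := by
  obtain ⟨D, _, _, π₀, _, hπ₀, ⟨N, hN⟩, hD⟩ := exists_residue_prime hn hG hGi hng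
  haveI : Module.Finite k L := Module.finite_of_finrank_pos (hL ▸ hn.pos)
  haveI : Finite L := Module.finite_of_finite k
  obtain ⟨φ⟩ : Nonempty (D →ₐ[k] L) := FiniteField.nonempty_algHom_of_finrank_dvd (by rw [hD, hL])
  have hφ : Function.Surjective φ :=
    (LinearMap.injective_iff_surjective_of_finrank_eq_finrank (f := φ.toLinearMap) (hD.trans hL.symm)).1 φ.injective
  let π : End G →ₐ[k] L := φ.comp π₀
  have hπ : Function.Surjective π := hφ.comp hπ₀
  have hker : RingHom.ker π = RingHom.ker π₀ := Ideal.ext fun x => by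
    simp [π, RingHom.mem_ker, map_eq_zero_iff φ φ.injective]
  haveI : IsIntegral X := GeometricallyIntegral.isIntegral_of_subsingleton (X ↘ Spec (CommRingCat.of k))
  haveI := CurvLib.isNoetherian k (X := X)
  have hGc : Coh.IsCoh G := Groth.Agent.PerfLib.isCoh_of_isFinLocFree (isFinLocFree_of_rank hG)
  haveI := hGc.1
  obtain ⟨d, r, t, Y, i, p, hd, hdr, hip, htot, ⟨f⟩, hne, hr, he, hdiag⟩ :=
    exists_pieces (k := k) hn.ne_zero hG hGi π hπ (N := N) (by rw [hker]; exact hN)
  obtain rfl : d = n := hd.trans hL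
  obtain rfl : r = 1 := Nat.eq_of_mul_eq_mul_left hn.pos (hdr.trans (mul_one d).symm)
  have hYi : ∀ a, PicF.IsInvertible (Y a) := fun a => Groth.Agent.S7797.isInvertible_of_rank_one (hr a)
  haveI := VeryAmpleLib.isIntegral_bc k X L
  haveI : IsProper (Curv2.bc k X L ↘ Spec (CommRingCat.of L)) := VeryAmpleLib.isProper_bc k X L
  haveI : Smooth (Curv2.bc k X L ↘ Spec (CommRingCat.of L)) :=
    inferInstanceAs (Smooth (pullback.snd (X ↘ Spec (CommRingCat.of k)) _))
  haveI : GeometricallyIntegral (Curv2.bc k X L ↘ Spec (CommRingCat.of L)) :=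
    inferInstanceAs (GeometricallyIntegral (pullback.snd (X ↘ Spec (CommRingCat.of k)) _))
  have hdimL : topologicalKrullDim (Curv2.bc k X L) = 1 := (VeryAmpleLib.dim_bc k X L).trans hdim
  have hdeg : ∀ a, (d : ℤ) * Curv2.deg L (Curv2.bc k X L) (Y a) 1 = Curv2.deg k X G d := fun a => by
    have hO := HilbPolyLib.euler_bc (k := k) L (DevissLib.isCoh_structureModule X).1
    rw [CurvLib.euler_congr (k := L) (KFlatLib.pullUnitIso (Curv2.bcFst k X L))] at hO
    rw [Curv2.deg, Curv2.deg, mul_sub, he a, hO, Nat.cast_one, one_mul]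
  have hhom : ∀ a b, a ≠ b → ∀ φ : Y a ⟶ Y b, φ = 0 := fun a b hab φ =>
    EllAutLib.hom_eq_zero_line (k := L) hdimL (hYi a) (hYi b)
      (mul_left_cancel₀ (Nat.cast_ne_zero.2 hn.ne_zero) ((hdeg a).trans (hdeg b).symm)) (hne a b hab) φ
  refine ⟨π, Y, i, p, ⟨(injective_iff_map_eq_zero π).2 fun x hx => ?_, hπ⟩, hYi, htot, ⟨f⟩, hne, hdeg,
    fun a M hM ⟨w⟩ => ?_⟩
  · refine map_injective (k := k) (L := L) (φ := x.asHom) (ψ := 0) ?_
    rw [Functor.map_zero]
    refine eq_zero_of_comp i p htot _ fun a => eq_zero_of_comp' i p htot _ fun b => ?_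
    rw [Category.assoc]
    by_cases hab : a = b
    · subst hab
      obtain ⟨c, hc⟩ := EllAutLib.exists_smul (k := L) hdimL (hYi a) (i a ≫ (P k X L).map x.asHom ≫ p a)
      have h0 := hdiag a (1 ⊗ₜ x) c (by
        rw [endMap_tmul, one_smul]
        exact hc.symm)
      rw [chi_tmul, hx, map_zero, mul_zero] at h0
      rw [← hc, ← h0, zero_smul]
    · exact hhom a b hab _
  · have hMi : KSMod.Indec M := KSMod.indec_invertible (X ↘ Spec (CommRingCat.of k)) hM
    have hMc : Coh.IsCoh M := Groth.Agent.PerfLib.isCoh_of_isFinLocFree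
      (isFinLocFree_of_rank (CurvLib.locFree_of_isInvertible hM))
    obtain ⟨u, v, huv⟩ := KSMod.exists_isIso_comp (sqBC k X L) hMc hGc hMi (w.inv ≫ i a) (p a ≫ w.hom)
      (by rw [Category.assoc, reassoc_of% (hip a), w.inv_hom_id])
    haveI := huv
    haveI : IsIso u := KSMod.isIso_of_retract hGi hMi.1 u (v ≫ inv (u ≫ v)) (by
      rw [← Category.assoc, IsIso.hom_inv_id])
    have h1 := EtaleChiLib.genRank_congr (asIso u)
    rw [genRank_eq (CurvLib.locFree_of_isInvertible hM), genRank_eq hG] at h1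
    exact hn.one_lt.ne h1

end EllDescLib

end
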