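import Groth.Agent.EllDescLib.Split
import Groth.Agent.EllDescLib.Indec
import Groth.Agent.KSModLib.GaloisPush
import Groth.Agent.StabExtLib.FiniteExt
import Groth.Agent.SeesawLib.Ranks
import Groth.Agent.EtaleChiLib.Push
import Groth.Agent.VeryAmpleLib.Bc

/-!
# The pieces of a base change of an indecomposable bundle
-/

set_option autoImplicit false
set_option linter.style.haveILetI false
set_option linter.unusedSectionVars false
set_option maxHeartbeats 1000000
universe u

open CategoryTheory CategoryTheory.Limits AlgebraicGeometry TopologicalSpace Opposite TensorProduct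
open GLinBCLib KFlatLib CurveVBLib
open W4c1astiltbs12 (galAct pow)

noncomputable section

namespace EllDescLib

attribute [local instance] HilbPolyLib.bcOver Abelian.hasFiniteBiproducts

/-- The direct image along an isomorphism is a pullback. -/
def pushAsPull {Y Z : Scheme.{u}} (g : Y ⟶ Z) [IsIso g] :
    Scheme.Modules.pushforward g ≅ Scheme.Modules.pullback (inv g) :=
  (Scheme.Modules.pullbackPushforwardAdjunction g).rightAdjointUniq
    (CategoryTheory.Equivalence.mk (Scheme.Modules.pullback g) (Scheme.Modules.pullback (inv g))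
      (Scheme.Modules.pullbackComp (inv g) g ≪≫ Scheme.Modules.pullbackCongr (IsIso.inv_hom_id g) ≪≫
        Scheme.Modules.pullbackId Z).symm
      (Scheme.Modules.pullbackComp g (inv g) ≪≫ Scheme.Modules.pullbackCongr (IsIso.hom_inv_id g) ≪≫
        Scheme.Modules.pullbackId Y)).toAdjunction

theorem genRank_biproduct {Y : Scheme.{u}} [IsIntegral Y] [IsLocallyNoetherian Y] :
    ∀ {n : ℕ} (F : Fin n → Y.Modules), (∀ a, Coh.IsCoh (F a)) →
      CurvLib.genRank (⨁ F) = ∑ a, CurvLib.genRank (F a)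
  | 0, F, _ => by rw [genRank_of_isZero (KSMod.isZero_of_isEmpty F)]; rfl
  | n + 1, F, hF => by
    have h2 : Coh.IsCoh (⨁ (F ∘ (0 : Fin (n + 1)).succAbove)) := CurveSDLib.isCoh_biproduct fun _ => hF _
    have h12 : Coh.IsCoh (F 0 ⊞ ⨁ (F ∘ (0 : Fin (n + 1)).succAbove)) :=
      QCohLib.isCoh_of_iso (KSMod.splitOff F 0) (CurveSDLib.isCoh_biproduct hF)
    rw [EtaleChiLib.genRank_congr (KSMod.splitOff F 0), EtaleChiLib.genRank_biprod (hF 0) h2 h12,
      genRank_biproduct (F ∘ (0 : Fin (n + 1)).succAbove) fun _ => hF _, Fin.sum_univ_succAbove _ 0]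
    rfl

theorem nonempty_powM_pow {X : Scheme.{u}} (G : X.Modules) :
    ∀ n : ℕ, Nonempty (StabExtLib.powM G n ≅ ⨁ fun _ : Fin n => G)
  | 0 => ⟨(KSMod.isZero_of_isEmpty _).iso (KSMod.isZero_of_isEmpty _)⟩
  | n + 1 =>
    (nonempty_powM_pow G n).map fun e =>
      biprod.mapIso (Iso.refl G) e ≪≫ (KSMod.splitOff (fun _ : Fin (n + 1) => G) 0).symm

variable {k : Type u} [Field k] [Finite k] {X : Scheme.{u}} [X.Over (Spec (CommRingCat.of k))]
  [IsProper (X ↘ Spec (CommRingCat.of k))] [GeometricallyIntegral (X ↘ Spec (CommRingCat.of k))]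
  {L : Type u} [Field L] [Algebra k L] [Module.Finite k L]

/-- The splitting of the base change along the residue field of the endomorphisms. -/
theorem exists_pieces {G : X.Modules} {n : ℕ} (hn : n ≠ 0) (hG : FlatMod.IsFinLocFreeOfRank n G)
    (hGi : KSMod.Indec G) (π : End G →ₐ[k] L) (hπ : Function.Surjective π) {N : ℕ}
    (hN : RingHom.ker π ^ N = ⊥) :
    ∃ (d r : ℕ) (t : Fin d ≃ (L ≃ₐ[k] L)) (Y : Fin d → (Curv2.bc k X L).Modules)
      (i : ∀ a, Y a ⟶ (P k X L).obj G) (p : ∀ a, (P k X L).obj G ⟶ Y a),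
      d = Module.finrank k L ∧ d * r = n ∧ (∀ a, i a ≫ p a = 𝟙 _) ∧ (∑ a, p a ≫ i a) = 𝟙 _ ∧
      Nonempty ((P k X L).obj G ≅ ∐ Y) ∧ (∀ a b, a ≠ b → ¬ Nonempty (Y a ≅ Y b)) ∧
      (∀ a, FlatMod.IsFinLocFreeOfRank r (Y a)) ∧
      (∀ a, (d : ℤ) * Curv2.euler L (Curv2.bc k X L) (Y a) = Curv2.euler k X G) ∧
      ∀ a (z : L ⊗[k] End G) (c : L), i a ≫ (endMap k L G z).asHom ≫ p a = c • 𝟙 (Y a) →
        chi π z (t a) = c := by
  classical
  haveI : Finite L := Module.finite_of_finite k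
  haveI : IsIntegral X := GeometricallyIntegral.isIntegral_of_subsingleton (X ↘ Spec (CommRingCat.of k))
  haveI := CurvLib.isNoetherian k (X := X)
  haveI := VeryAmpleLib.isIntegral_bc k X L
  haveI : IsProper (Curv2.bc k X L ↘ Spec (CommRingCat.of L)) := VeryAmpleLib.isProper_bc k X L
  haveI := CurvLib.isNoetherian L (X := Curv2.bc k X L)
  have hGc : Coh.IsCoh G := Groth.Agent.PerfLib.isCoh_of_isFinLocFree (isFinLocFree_of_rank hG)
  haveI := hGc.1
  haveI : Fintype (L ≃ₐ[k] L) := Fintype.ofFinite _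
  let d := Module.finrank k L
  let t : Fin d ≃ (L ≃ₐ[k] L) := (Fintype.equivFinOfCardEq (by
    rw [← Nat.card_eq_fintype_card, IsGalois.card_aut_eq_finrank])).symm
  obtain ⟨e₀, he₀, hχ₀⟩ := exists_idempotents π hπ hN
  let Q := (P k X L).obj G
  let Φ := endMap k L G
  have hΦ := endMap_bijective k L G
  let e : Fin d → L ⊗[k] End G := e₀ ∘ t
  have he : CompleteOrthogonalIdempotents e := (CompleteOrthogonalIdempotents.equiv t).mpr he₀
  have hχ : ∀ a b, chi π (e a) (t b) = if b = a then 1 else 0 := fun a b => by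
    rw [show chi π (e a) = Pi.single (t a) 1 from hχ₀ (t a)]
    simp [Pi.single_apply]
  obtain ⟨Y, i, p, hip, hpi, htot, ⟨f⟩⟩ := exists_split (fun a => Φ (e a)) (he.map Φ.toRingHom)
  have hY0 : ∀ a, ¬ IsZero (Y a) := fun a hz => by
    have h0 : e a = 0 := hΦ.1 (by
      rw [map_zero]
      refine (hpi a).symm.trans ?_
      show p a ≫ i a = 0
      rw [hz.eq_of_tgt (p a) 0, zero_comp])
    have := hχ a a
    simp [h0] at this
  have hYl : ∀ a, FlatMod.IsFinLocFree (Y a) := fun a => KSMod.isFinLocFree_of_retract (i a) (p a) (hip a)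
    (isFinLocFree_of_rank (SeesawLib.isFinLocFreeOfRank_pullback _ hG))
  have hYc : ∀ a, Coh.IsCoh (Y a) := fun a => Groth.Agent.PerfLib.isCoh_of_isFinLocFree (hYl a)
  -- direct images of the pieces
  let g := (sqBC k X L).g
  haveI : IsFinite g := StabExtLib.isFinite_bcFst L
  obtain ⟨eM⟩ : Nonempty ((Scheme.Modules.pushforward g).obj Q ≅ ⨁ fun _ : Fin d => G) := by
    haveI := StabExtLib.isIso_powDesc (k := k) L hGc
    exact (nonempty_powM_pow G d).map fun u =>
      (asIso (StabExtLib.powDesc (StabExtLib.cHom (k := k) L G))).symm ≪≫ u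
  let π' := Scheme.Modules.pushforward g
  let eS : ⨁ (fun a => π'.obj (Y a)) ≅ ⨁ fun _ : Fin d => G := (π'.mapBiproduct Y).symm ≪≫ π'.mapIso f.symm ≪≫ eM
  have hYp : ∀ a, Coh.IsCoh (π'.obj (Y a)) := fun a => QCohLib.isCoh_push_finite g _ (hYc a)
  have hpne : ∀ a, ¬ IsZero (π'.obj (Y a)) := fun a hz => hY0 a ((IsZero.iff_id_eq_zero _).2 (by
    have h1 : p a = 0 := ((Scheme.Modules.pullbackPushforwardAdjunction g).homEquiv _ _).injective
      (hz.eq_of_tgt _ _)
    rw [← hip a, h1, comp_zero]))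
  have hm : ∀ a, ∃ m : ℕ, Nonempty (π'.obj (Y a) ≅ pow G m) := fun a => by
    obtain ⟨d', hd'⟩ : ∃ d', d = d' + 1 := ⟨d - 1, by have := a.2; omega⟩
    have hsp : ∀ {d : ℕ} (F : Fin d → X.Modules) (a : Fin d), ∃ B, Nonempty (⨁ F ≅ F a ⊞ B) := by
      intro d F a
      cases d with
      | zero => exact a.elim0
      | succ d => exact ⟨_, ⟨KSMod.splitOff F a⟩⟩
    obtain ⟨B, ⟨s⟩⟩ := hsp (fun a => π'.obj (Y a)) a
    exact KSMod.summand_pow (k := k) (CurveSDLib.isCoh_biproduct hYp) hGi s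
      (eS ≪≫ biproduct.isoCoproduct _)
  choose m hm using hm
  have hrm : ∀ a, CurvLib.genRank (π'.obj (Y a)) = m a * n := fun a => by
    rw [EtaleChiLib.genRank_congr ((hm a).some ≪≫ (biproduct.isoCoproduct _).symm),
      genRank_biproduct (fun _ : Fin (m a) => G) fun _ => hGc]
    simp [genRank_eq hG]
  have hsum : ∑ a, m a * n = d * n := by
    have h1 := EtaleChiLib.genRank_congr eS
    rw [genRank_biproduct _ hYp, genRank_biproduct _ fun _ => hGc] at h1
    simpa [hrm, genRank_eq hG] using h1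
  have hm1 : ∀ a, m a = 1 := fun a => by
    have hpos : ∀ b, 1 ≤ m b := fun b => Nat.one_le_iff_ne_zero.2 fun h0 => hpne b
      ((KSMod.isZero_pow_zero G).of_iso (h0 ▸ (hm b).some))
    rw [← Finset.sum_mul] at hsum
    have h2 : ∑ b : Fin d, m b = ∑ _b : Fin d, 1 := by
      simpa using Nat.eq_of_mul_eq_mul_right (Nat.pos_of_ne_zero hn) hsum
    exact ((Finset.sum_eq_sum_iff_of_le fun b _ => hpos b).1 h2.symm a (Finset.mem_univ _)).symm
  have hiso : ∀ a, Nonempty (π'.obj (Y a) ≅ G) := fun a => by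
    have u := (hm a).some
    rw [hm1 a] at u
    exact ⟨u ≪≫ (biproduct.isoCoproduct _).symm ≪≫ biproductUniqueIso (fun _ : Fin 1 => G)⟩
  -- ranks
  have hr : ∀ a, n = d * CurvLib.genRank (Y a) := fun a => by
    haveI := (hYc a).1
    obtain ⟨u⟩ := hiso a
    obtain ⟨σ, ⟨v⟩⟩ := KSMod.nonempty_pb_push (X ↘ Spec (CommRingCat.of k)) L (Y a) (hYc a).1
    have hl : ∀ b, FlatMod.IsFinLocFreeOfRank (CurvLib.genRank (Y a))
        ((Scheme.Modules.pullback (inv (galAct (X ↘ Spec (CommRingCat.of k)) L (σ b)))).obj (Y a)) := fun b =>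
      SeesawLib.isFinLocFreeOfRank_pullback _ (rank_genRank (hYl a))
    let w : (P k X L).obj G ≅ ⨁ fun b => (Scheme.Modules.pullback
        (inv (galAct (X ↘ Spec (CommRingCat.of k)) L (σ b)))).obj (Y a) :=
      (P k X L).mapIso u.symm ≪≫ v ≪≫ biproduct.mapIso fun b => (pushAsPull _).app (Y a)
    have h1 := EtaleChiLib.genRank_congr w
    rw [genRank_eq (SeesawLib.isFinLocFreeOfRank_pullback _ hG), genRank_biproduct _ fun b =>
      Groth.Agent.PerfLib.isCoh_of_isFinLocFree (isFinLocFree_of_rank (hl b)),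
      Finset.sum_congr rfl fun b _ => genRank_eq (hl b)] at h1
    rw [h1, Finset.sum_const, Finset.card_univ, Fintype.card_fin, IsGalois.card_aut_eq_finrank, smul_eq_mul]
  have hd : d ≠ 0 := Module.finrank_pos.ne'
  let r := CurvLib.genRank (Y ⟨0, Nat.pos_of_ne_zero hd⟩)
  have hYr : ∀ a, CurvLib.genRank (Y a) = r := fun a =>
    Nat.eq_of_mul_eq_mul_left (Nat.pos_of_ne_zero hd) ((hr a).symm.trans (hr _))
  refine ⟨d, r, t, Y, i, p, rfl, (hr _).symm, hip, htot, ⟨f ≪≫ biproduct.isoCoproduct _⟩, fun a b hab ⟨w⟩ => ?_,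
    fun a => hYr a ▸ rank_genRank (hYl a), fun a => ?_, fun a z c hz => ?_⟩
  · -- different pieces are not isomorphic
    obtain ⟨u, hu⟩ := hΦ.2 (End.of (p a ≫ w.hom ≫ i b))
    obtain ⟨v, hv⟩ := hΦ.2 (End.of (p b ≫ w.inv ≫ i a))
    have h1 : v * u = e a := hΦ.1 (by
      rw [map_mul, ← show End.of (p a ≫ i a) = Φ (e a) from hpi a, hu, hv]
      show (p a ≫ w.hom ≫ i b) ≫ p b ≫ w.inv ≫ i a = p a ≫ i a
      simp [reassoc_of% (hip b)])
    have h2 : u * v = e b := hΦ.1 (by
      rw [map_mul, ← show End.of (p b ≫ i b) = Φ (e b) from hpi b, hu, hv]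
      show (p b ≫ w.inv ≫ i a) ≫ p a ≫ w.hom ≫ i b = p b ≫ i b
      simp [reassoc_of% (hip a)])
    have h3 : chi π (e a) (t a) = chi π (e b) (t a) := by
      rw [← h1, ← h2, map_mul, map_mul, mul_comm]
    rw [hχ, hχ, if_pos rfl, if_neg hab] at h3
    exact one_ne_zero h3
  · -- Euler characteristics
    haveI := (hYc a).1
    obtain ⟨u⟩ := hiso a
    letI hk : (Curv2.bc k X L).Over (Spec (CommRingCat.of k)) := StabExtLib.bcOverK L
    haveI : IsAffineHom (Curv2.bcFst k X L) := (sqBC k X L).isAffineHom_g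
    have h1 := StabExtLib.euler_restrict (k := k) L (Y a)
    have h2 := (PushLinLib.euler_push k (Curv2.bcFst k X L) pullback.condition (Y a)).2
    have h3 := CurvLib.euler_congr (k := k) u
    exact h1.symm.trans (h2.trans h3)
  · -- diagonal components
    have h1 : e a * z * e a = c • e a := hΦ.1 (by
      rw [map_smul, map_mul, map_mul, ← show End.of (p a ≫ i a) = Φ (e a) from hpi a]
      show (p a ≫ i a) ≫ (endMap k L G z).asHom ≫ p a ≫ i a = c • (p a ≫ i a)
      calc (p a ≫ i a) ≫ (endMap k L G z).asHom ≫ p a ≫ i a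
          = p a ≫ (i a ≫ (endMap k L G z).asHom ≫ p a) ≫ i a := by simp only [Category.assoc]
        _ = c • (p a ≫ i a) := by rw [hz, Linear.smul_comp, Category.id_comp, Linear.comp_smul])
    have h2 := congrFun (congrArg (chi π) h1) (t a)
    rw [map_mul, map_mul, map_smul, Pi.mul_apply, Pi.mul_apply, Pi.smul_apply, hχ, if_pos rfl] at h2
    simpa using h2

end EllDescLib

end
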