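import Mathlib

/-!
# Algebras with residue field and their extensions of scalars
-/

set_option autoImplicit false
set_option maxHeartbeats 400000

universe u v

open TensorProduct

noncomputable section

namespace EllDescLib

/-- The quotient by a nilpotent ideal containing all nonunits is a field. -/
theorem exists_field {k : Type u} [Field k] (A : Type v) [Ring A] [Algebra k A] [Finite A] [Nontrivial A]
    [Module.Finite k A] (J : Ideal A) [J.IsTwoSided] (N : ℕ) (hN : J ^ N = ⊥) (h : ∀ a : A, ¬ IsUnit a → a ∈ J) :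
    ∃ (D : Type v) (_ : Field D) (_ : Algebra k D) (π : A →ₐ[k] D), Module.Finite k D ∧
      Function.Surjective π ∧ ∃ N : ℕ, RingHom.ker π ^ N = ⊥ := by
  have hu : ∀ x : A ⧸ J, x ≠ 0 → IsUnit x := fun x hx => by
    obtain ⟨a, rfl⟩ := Ideal.Quotient.mk_surjective x
    by_cases ha : IsUnit a
    · exact ha.map _
    · exact absurd (Ideal.Quotient.eq_zero_iff_mem.2 (h a ha)) hx
  haveI : Nontrivial (A ⧸ J) := Ideal.Quotient.nontrivial_iff.2 fun htop => by
    have h0 : ∀ n : ℕ, (1 : A) ∈ J ^ n := fun n => by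
      induction n with
      | zero => simp [Submodule.pow_zero, Ideal.one_eq_top]
      | succ n ih =>
        rw [Ideal.IsTwoSided.pow_succ]
        have h1 : (1 : A) ∈ J := by rw [htop]; exact Submodule.mem_top
        simpa using Ideal.mul_mem_mul h1 ih
    have h1 := h0 N
    rw [hN] at h1
    exact one_ne_zero h1
  haveI : NoZeroDivisors (A ⧸ J) := ⟨fun {a b} hab => or_iff_not_imp_left.2 fun ha =>
    (hu a ha).mul_right_eq_zero.1 hab⟩
  haveI : Finite (A ⧸ J) := Finite.of_surjective _ Ideal.Quotient.mk_surjective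
  haveI : IsDomain (A ⧸ J) := NoZeroDivisors.to_isDomain _
  have hc := (Finite.isDomain_to_isField (A ⧸ J)).mul_comm
  let C : CommRing (A ⧸ J) := { Ideal.Quotient.ring J with mul_comm := hc }
  let F : Field (A ⧸ J) := @Field.ofIsUnitOrEqZero (A ⧸ J) _ C fun x => (em (x = 0)).symm.imp_left (hu x)
  refine ⟨A ⧸ J, F, Ideal.Quotient.algebra k, Ideal.Quotient.mkₐ k J, ?_,
    Ideal.Quotient.mkₐ_surjective k J, N, ?_⟩
  · exact Module.Finite.of_surjective (Ideal.Quotient.mkₐ k J).toLinearMap Ideal.Quotient.mk_surjective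
  · rw [show RingHom.ker (Ideal.Quotient.mkₐ k J) = J from Ideal.mk_ker]
    exact hN

/-- A finite algebra over a finite field without nontrivial idempotents has a finite residue field. -/
theorem exists_residue {k : Type u} [Field k] [Finite k] (A : Type v) [Ring A] [Algebra k A] [Module.Finite k A]
    [Nontrivial A] (h : ∀ a : A, ¬ IsUnit a → a ∈ Ring.jacobson A) :
    ∃ (D : Type v) (_ : Field D) (_ : Algebra k D) (π : A →ₐ[k] D), Module.Finite k D ∧
      Function.Surjective π ∧ ∃ N : ℕ, RingHom.ker π ^ N = ⊥ := by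
  haveI : IsArtinianRing A := IsArtinianRing.of_finite k _
  obtain ⟨N, hN⟩ := IsSemiprimaryRing.isNilpotent (R := A)
  haveI : Finite A := Module.finite_of_finite k
  exact exists_field A (Ring.jacobson A) N hN h

variable {k : Type u} [Field k] {L : Type u} [Field L] [Algebra k L] {A : Type v} [Ring A] [Algebra k A]

/-- Evaluation of `L ⊗ A` at the conjugates of a character. -/
def chi (π : A →ₐ[k] L) : L ⊗[k] A →ₐ[L] ((L ≃ₐ[k] L) → L) :=
  Algebra.TensorProduct.lift (Algebra.ofId L _) (Pi.algHom k _ fun σ => σ.toAlgHom.comp π)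
    fun _ _ => .all _ _

theorem chi_tmul (π : A →ₐ[k] L) (c : L) (a : A) (σ : L ≃ₐ[k] L) : chi π (c ⊗ₜ a) σ = c * σ (π a) := by
  simp [chi, Algebra.ofId_apply]

theorem pow_mem_span {J : Ideal A} [J.IsTwoSided] {z : L ⊗[k] A}
    (hz : z ∈ Submodule.span k {x | ∃ (c : L) (a : A), a ∈ J ∧ x = c ⊗ₜ a}) :
    ∀ n : ℕ, z ^ n ∈ Submodule.span k {x | ∃ (c : L) (a : A), a ∈ J ^ n ∧ x = c ⊗ₜ a}
  | 0 => Submodule.subset_span ⟨1, 1, by simp [Submodule.pow_zero, Ideal.one_eq_top], by
      rw [pow_zero]; rfl⟩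
  | n + 1 => by
    rw [pow_succ']
    refine Submodule.span_induction₂ (p := fun x y _ _ => x * y ∈ Submodule.span k
        {x | ∃ (c : L) (a : A), a ∈ J ^ (n + 1) ∧ x = c ⊗ₜ a}) (fun x y hx hy => ?_) (fun y hy => by rw [zero_mul]; exact zero_mem _)
      (fun x hx => by rw [mul_zero]; exact zero_mem _)
      (fun x y w _ _ _ h₁ h₂ => by rw [add_mul]; exact add_mem h₁ h₂)
      (fun x y w _ _ _ h₁ h₂ => by rw [mul_add]; exact add_mem h₁ h₂)
      (fun c x y _ _ h => by rw [smul_mul_assoc]; exact Submodule.smul_mem _ c h)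
      (fun c x y _ _ h => by rw [mul_smul_comm]; exact Submodule.smul_mem _ c h) hz (pow_mem_span hz n)
    obtain ⟨c, a, ha, rfl⟩ := hx
    obtain ⟨c', a', ha', rfl⟩ := hy
    exact Submodule.subset_span ⟨c * c', a * a', by rw [Ideal.IsTwoSided.pow_succ]; exact Ideal.mul_mem_mul ha ha',
      Algebra.TensorProduct.tmul_mul_tmul c c' a a'⟩

variable [FiniteDimensional k L] [IsGalois k L]

/-- The matrix of the conjugates of a basis. -/
theorem galMatrix_bijective {ι : Type*} [Fintype ι] (e : Module.Basis ι k L) :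
    Function.Bijective fun (v : ι → L) (σ : L ≃ₐ[k] L) => ∑ i, v i * σ (e i) := by
  classical
  haveI : Fintype (L ≃ₐ[k] L) := Fintype.ofFinite _
  let t : (L ≃ₐ[k] L) ≃ ι := Fintype.equivOfCardEq (by
    rw [← Nat.card_eq_fintype_card, IsGalois.card_aut_eq_finrank, Module.finrank_eq_card_basis e])
  have hu : IsUnit (Matrix.of fun a i : ι => t.symm a (e i)) := by
    refine Matrix.linearIndependent_rows_iff_isUnit.1 (Fintype.linearIndependent_iff.2 fun c hc => ?_)
    have hind : LinearIndependent L fun a : ι => ((t.symm a).toAlgHom.toLinearMap : L →ₗ[k] L) :=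
      (linearIndependent_algHom_toLinearMap k L L).comp (fun a => (t.symm a).toAlgHom)
        fun a b h => t.symm.injective (AlgEquiv.coe_toAlgHom_injective h)
    refine Fintype.linearIndependent_iff.1 hind c (e.ext fun i => ?_)
    simpa [Matrix.row, Matrix.of_apply] using congrFun hc i
  obtain ⟨u, hu⟩ := hu
  have hb : Function.Bijective (Matrix.mulVec (u : Matrix ι ι L)) :=
    ⟨Matrix.mulVec_injective_of_isUnit u.isUnit, fun w => ⟨(↑u⁻¹ : Matrix ι ι L).mulVec w, by
      rw [Matrix.mulVec_mulVec, u.mul_inv, Matrix.one_mulVec]⟩⟩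
  have heq : (fun (v : ι → L) (σ : L ≃ₐ[k] L) => ∑ i, v i * σ (e i)) =
      (Equiv.piCongrLeft' (fun _ => L) t.symm : (ι → L) → _) ∘ Matrix.mulVec (u : Matrix ι ι L) := by
    funext v σ
    simp [hu, Matrix.mulVec, dotProduct, mul_comm]
  rw [heq]
  exact (Equiv.bijective _).comp hb

/-- The conjugates of a surjective character split the extension of scalars. -/
theorem chi_surjective (π : A →ₐ[k] L) (hπ : Function.Surjective π) : Function.Surjective (chi π) := fun w => by
  classical
  let e := Module.finBasis k L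
  choose a ha using fun i => hπ (e i)
  obtain ⟨v, hv⟩ := (galMatrix_bijective e).2 w
  refine ⟨∑ i, v i ⊗ₜ a i, funext fun σ => ?_⟩
  rw [map_sum, Finset.sum_apply, ← congrFun hv σ]
  exact Finset.sum_congr rfl fun i _ => by rw [chi_tmul, ha]

/-- The kernel of the evaluation at the conjugates is nilpotent. -/
theorem chi_ker_nilpotent (π : A →ₐ[k] L) (hπ : Function.Surjective π) {N : ℕ} (hN : RingHom.ker π ^ N = ⊥)
    (z : L ⊗[k] A) (hz : chi π z = 0) : IsNilpotent z := by
  classical
  let e := Module.finBasis k L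
  -- `z` maps to zero in `L ⊗ L`
  have h1 : π.toLinearMap.lTensor L z = 0 := by
    obtain ⟨v, hv⟩ : ∃ v : Fin (Module.finrank k L) →₀ L, π.toLinearMap.lTensor L z =
        v.sum fun i c => c ⊗ₜ e i :=
      ⟨TensorProduct.equivFinsuppOfBasisRight e (π.toLinearMap.lTensor L z),
        ((TensorProduct.equivFinsuppOfBasisRight_symm_apply e _).symm.trans
          ((TensorProduct.equivFinsuppOfBasisRight e).symm_apply_apply _)).symm⟩
    have hc : ∀ z : L ⊗[k] A, chi π z = chi (AlgHom.id k L) (π.toLinearMap.lTensor L z) := fun z => by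
      induction z using TensorProduct.induction_on with
      | zero => simp
      | tmul c a => funext σ; simp [chi_tmul]
      | add x y hx hy => simp [hx, hy]
    have hv0 : v = 0 := by
      refine DFunLike.coe_injective ((galMatrix_bijective e).1 (funext fun σ => ?_))
      rw [hc, hv, map_finsuppSum, Finsupp.sum_fintype _ _ (fun i => by simp)] at hz
      have := congrFun hz σ
      rw [Finset.sum_apply] at this
      simpa [chi_tmul] using this
    rw [hv, hv0, Finsupp.sum_zero_index]
  have hex : Function.Exact (LinearMap.ker π.toLinearMap).subtype π.toLinearMap :=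
    π.toLinearMap.exact_subtype_ker_map
  obtain ⟨w, rfl⟩ := (lTensor_exact L hex hπ z).1 h1
  refine ⟨N, ?_⟩
  clear hz h1
  have h2 : (LinearMap.ker π.toLinearMap).subtype.lTensor L w ∈
      Submodule.span k {x | ∃ (c : L) (a : A), a ∈ RingHom.ker π ∧ x = c ⊗ₜ a} := by
    induction w using TensorProduct.induction_on with
    | zero => simp
    | tmul c a => exact Submodule.subset_span ⟨c, a.1, a.2, rfl⟩
    | add x y hx hy => rw [map_add]; exact add_mem hx hy
  have h3 := pow_mem_span h2 N
  rw [hN] at h3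
  refine (Submodule.mem_bot k).1 ((Submodule.span_le.2 ?_) h3)
  rintro x ⟨c, a, ha, rfl⟩
  rw [Ideal.mem_bot] at ha
  simp [ha]

/-- Orthogonal idempotents indexed by the Galois group. -/
theorem exists_idempotents [Fintype (L ≃ₐ[k] L)] [DecidableEq (L ≃ₐ[k] L)] (π : A →ₐ[k] L)
    (hπ : Function.Surjective π) {N : ℕ} (hN : RingHom.ker π ^ N = ⊥) :
    ∃ e : (L ≃ₐ[k] L) → L ⊗[k] A, CompleteOrthogonalIdempotents e ∧
      ∀ σ, chi π (e σ) = Pi.single σ 1 := by
  obtain ⟨e, he, hf⟩ := CompleteOrthogonalIdempotents.lift_of_isNilpotent_ker (chi π).toRingHom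
    (fun z hz => chi_ker_nilpotent π hπ hN z hz) (CompleteOrthogonalIdempotents.single (fun _ : L ≃ₐ[k] L => L))
    (fun σ => chi_surjective π hπ _)
  exact ⟨e, he, fun σ => congrFun hf σ⟩

end EllDescLib

end
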